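import Mathlib

set_option autoImplicit false
set_option linter.unusedSectionVars false

namespace Cfsg.Agent.H9

open Equiv Equiv.Perm MulAction Subgroup

section SymIndex

variable {Ω : Type*} [Fintype Ω] [DecidableEq Ω]

theorem normalCore_eq_bot_of_not_le (h5 : 5 ≤ Fintype.card Ω) (H : Subgroup (Perm Ω))
    (hA : ¬ alternatingGroup Ω ≤ H) : H.normalCore = ⊥ := by
  by_contra hne
  have : Nontrivial H.normalCore := (Subgroup.nontrivial_iff_ne_bot _).2 hne
  exact hA ((alternatingGroup_le_of_normal (by simpa using h5) this).trans H.normalCore_le)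

theorem eq_top_or_eq_alt_of_le [Nontrivial Ω] (H : Subgroup (Perm Ω))
    (hA : alternatingGroup Ω ≤ H) : H = ⊤ ∨ H = alternatingGroup Ω := by
  have h1 := Subgroup.index_dvd_of_le hA
  rw [alternatingGroup.index_eq_two] at h1
  rcases (Nat.dvd_prime Nat.prime_two).1 h1 with h | h
  · left; exact Subgroup.index_eq_one.1 h
  · right; exact eq_alternatingGroup_of_index_eq_two h

theorem card_le_index (h4 : Fintype.card Ω ≠ 4) (H : Subgroup (Perm Ω)) (hH : H ≠ ⊤)
    (hA : H ≠ alternatingGroup Ω) : Fintype.card Ω ≤ H.index := by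
  have h1 : H.index ≠ 1 := fun h => hH (Subgroup.index_eq_one.1 h)
  have h2 : H.index ≠ 2 := fun h => hA (eq_alternatingGroup_of_index_eq_two h)
  have h0 : H.index ≠ 0 := Subgroup.index_ne_zero_of_finite
  by_cases h5 : 5 ≤ Fintype.card Ω
  · have : Nontrivial Ω := Fintype.one_lt_card_iff_nontrivial.1 (by omega)
    have hA' : ¬ alternatingGroup Ω ≤ H := fun h => by
      rcases eq_top_or_eq_alt_of_le H h with h | h
      · exact hH h
      · exact hA h
    have hc := normalCore_eq_bot_of_not_le h5 H hA'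
    rw [Subgroup.normalCore_eq_ker, MonoidHom.ker_eq_bot_iff] at hc
    have := Nat.card_le_card_of_injective _ hc
    rw [Nat.card_perm, Nat.card_perm, ← Subgroup.index_eq_card, Nat.card_eq_fintype_card] at this
    by_contra hlt
    have := (Nat.factorial_lt (Nat.pos_of_ne_zero h0)).2 (not_le.1 hlt)
    omega
  · omega

/-- A subgroup of index `n` of `S_n`, `n ≥ 5`, is the image of a point stabiliser under an
automorphism. -/
theorem exists_aut_of_index (h5 : 5 ≤ Fintype.card Ω) (H : Subgroup (Perm Ω))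
    (hH : H.index = Fintype.card Ω) (a : Ω) :
    ∃ ψ : Perm Ω ≃* Perm Ω, H = (stabilizer (Perm Ω) a).map ψ.toMonoidHom := by
  classical
  have : Nontrivial Ω := Fintype.one_lt_card_iff_nontrivial.1 (by omega)
  have hA' : ¬ alternatingGroup Ω ≤ H := fun h => by
    have h1 := Subgroup.index_dvd_of_le h
    rw [alternatingGroup.index_eq_two] at h1
    have := Nat.le_of_dvd (by norm_num) h1
    omega
  have hc := normalCore_eq_bot_of_not_le h5 H hA'
  rw [Subgroup.normalCore_eq_ker, MonoidHom.ker_eq_bot_iff] at hc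
  have hcard : Nat.card (Perm Ω ⧸ H) = Nat.card Ω := by
    rw [← Subgroup.index_eq_card, hH, Nat.card_eq_fintype_card]
  obtain ⟨e0⟩ := Finite.card_eq.1 hcard
  let e : (Perm Ω ⧸ H) ≃ Ω := e0.trans (swap (e0 ((1 : Perm Ω) : Perm Ω ⧸ H)) a)
  have he : e ((1 : Perm Ω) : Perm Ω ⧸ H) = a := by simp [e]
  let φ : Perm Ω →* Perm Ω :=
    (e.permCongrHom.toMonoidHom).comp (MulAction.toPermHom (Perm Ω) (Perm Ω ⧸ H))
  have hφi : Function.Injective φ := e.permCongrHom.injective.comp hc
  have hφb : Function.Bijective φ := (Finite.injective_iff_bijective).1 hφi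
  let φe : Perm Ω ≃* Perm Ω := MulEquiv.ofBijective φ hφb
  refine ⟨φe.symm, ?_⟩
  ext g
  rw [Subgroup.mem_map_equiv]
  simp only [MulEquiv.symm_symm, mem_stabilizer_iff, Perm.smul_def]
  have : φe g a = e (g • ((1 : Perm Ω) : Perm Ω ⧸ H)) := by
    simp [φe, φ, ← he]
  rw [this, ← he, e.apply_eq_iff_eq, MulAction.Quotient.smul_coe, QuotientGroup.eq]
  simp

theorem fact_aux (n k : ℕ) (h5 : 5 ≤ n) (hk : 2 * k ≤ n) (hk1 : 1 ≤ k)
    (h : (n - 2 * k).factorial * 2 ^ k * k.factorial = (n - 2).factorial * 2) :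
    k = 1 ∨ (n = 6 ∧ k = 3) := by
  -- (n-2)! = (n-2k)! * ascending product of 2k-2 terms, at least (2k-2)!
  by_cases hk' : k = 1
  · exact Or.inl hk'
  right
  have hk2 : 2 ≤ k := by omega
  obtain ⟨j, rfl⟩ : ∃ j, n = 2 * k + j := ⟨n - 2 * k, by omega⟩
  have e1 : 2 * k + j - 2 * k = j := by omega
  have e2 : 2 * k + j - 2 = j + (2 * k - 2) := by omega
  rw [e1, e2, ← Nat.factorial_mul_ascFactorial, mul_assoc, mul_assoc] at h
  have h' := Nat.eq_of_mul_eq_mul_left (Nat.factorial_pos j) h
  -- ascFactorial is monotone in j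
  have hmono : ∀ m i i' : ℕ, i ≤ i' → (i).ascFactorial m ≤ (i').ascFactorial m := by
    intro m i i' hi
    induction m with
    | zero => simp
    | succ m ih =>
      rw [Nat.ascFactorial_succ, Nat.ascFactorial_succ]
      exact Nat.mul_le_mul (by omega) ih
  have hbig : ∀ k : ℕ, 4 ≤ k → 2 ^ k * k.factorial < (2 * k - 2).factorial * 2 := by
    intro k hk
    induction k, hk using Nat.le_induction with
    | base => decide
    | succ k hk ih =>
      have e : 2 * (k + 1) - 2 = (2 * k - 2) + 1 + 1 := by omega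
      rw [e, Nat.factorial_succ, Nat.factorial_succ, Nat.factorial_succ, pow_succ]
      have : 2 * (k + 1) ≤ (2 * k - 2 + 1 + 1) * (2 * k - 2 + 1) := by
        have : 2 * k - 2 + 1 + 1 = 2 * k := by omega
        rw [this]
        have : 2 ≤ 2 * k - 2 + 1 := by omega
        nlinarith
      calc 2 ^ k * 2 * ((k + 1) * k.factorial) = (2 * (k + 1)) * (2 ^ k * k.factorial) := by ring
        _ < (2 * (k + 1)) * ((2 * k - 2).factorial * 2) :=
          Nat.mul_lt_mul_of_pos_left ih (by omega)
        _ ≤ ((2 * k - 2 + 1 + 1) * (2 * k - 2 + 1)) * ((2 * k - 2).factorial * 2) :=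
          Nat.mul_le_mul_right _ this
        _ = _ := by ring
  by_cases hk4 : 4 ≤ k
  · have h1 := hbig k hk4
    have h2 := hmono (2 * k - 2) 1 (j + 1) (by omega)
    rw [Nat.one_ascFactorial] at h2
    omega
  · have : k = 2 ∨ k = 3 := by omega
    rcases this with rfl | rfl
    · have h2 := hmono 2 2 (j + 1) (by omega)
      have h3 : (2 : ℕ).ascFactorial 2 = 6 := by decide
      have h4 : (2 : ℕ) ^ 2 * Nat.factorial 2 = 8 := by decide
      simp only [show 2 * 2 - 2 = 2 from rfl] at h'
      omega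
    · by_cases hj : j = 0
      · subst hj; simp
      · have h2 := hmono 4 2 (j + 1) (by omega)
        have h3 : (2 : ℕ).ascFactorial 4 = 120 := by decide
        have h4 : (2 : ℕ) ^ 3 * Nat.factorial 3 = 48 := by decide
        simp only [show 2 * 3 - 2 = 4 from rfl] at h'
        omega

theorem card_centralizer_aut {G : Type*} [Group G] (ψ : G ≃* G) (t : G) :
    Nat.card (centralizer {ψ t}) = Nat.card (centralizer {t}) := by
  have : centralizer {ψ t} = (centralizer {t}).map ψ.toMonoidHom := by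
    ext g
    rw [Subgroup.mem_map_equiv, mem_centralizer_singleton_iff, mem_centralizer_singleton_iff]
    constructor
    · intro h
      apply ψ.injective
      simpa using h
    · intro h
      have := congrArg ψ h
      simpa using this
  rw [this, Subgroup.card_map_of_injective ψ.injective]

theorem aut_swap (h5 : 5 ≤ Fintype.card Ω) (ψ : Perm Ω ≃* Perm Ω) (t : Perm Ω) (ht : t.IsSwap) :
    (ψ t).IsSwap ∨ (Fintype.card Ω = 6 ∧ (ψ t).cycleType = Multiset.replicate 3 2) := by
  have ho : orderOf (ψ t) = 2 := by rw [MulEquiv.orderOf_eq, ht.orderOf]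
  obtain ⟨k, hk⟩ := cycleType_prime_order (σ := ψ t) (by rw [ho]; exact Nat.prime_two)
  rw [ho] at hk
  have hc := card_centralizer_aut ψ t
  rw [nat_card_centralizer, nat_card_centralizer, hk, isSwap_iff_cycleType.1 ht] at hc
  have hs := (ψ t).sum_cycleType_le
  rw [hk] at hs
  simp only [Multiset.sum_replicate, smul_eq_mul, Multiset.prod_replicate,
    Multiset.toFinset_replicate, Nat.succ_ne_zero, if_false, Finset.prod_singleton,
    Multiset.count_replicate_self, Multiset.sum_singleton, Multiset.prod_singleton,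
    Multiset.toFinset_singleton, Multiset.count_singleton_self, Nat.factorial_one, mul_one] at hc hs
  rw [mul_comm (k + 1) 2] at hc hs
  rcases fact_aux _ (k + 1) h5 hs (by omega) hc with h | ⟨h1, h2⟩
  · left
    rw [← card_support_eq_two, ← sum_cycleType, hk, h]; simp
  · right
    exact ⟨h1, by rw [hk, h2]⟩

theorem stabilizer_eq_closure_swaps (a : Ω) :
    stabilizer (Perm Ω) a = closure {t : Perm Ω | t.IsSwap ∧ t a = a} := by
  apply le_antisymm
  · intro f hf
    rw [mem_closure_isSwap (fun _ h => h.1)]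
    refine ⟨Set.toFinite _, fun x => ?_⟩
    rw [mem_stabilizer_iff, Perm.smul_def] at hf
    by_cases hx : f x = x
    · rw [hx]; exact mem_orbit_self x
    · have hxa : x ≠ a := fun h => hx (by rw [h, hf])
      have hfxa : f x ≠ a := fun h => hxa (f.injective (by rw [h, hf]))
      refine ⟨⟨swap x (f x), subset_closure ⟨⟨x, f x, Ne.symm hx, rfl⟩, ?_⟩⟩, swap_apply_left _ _⟩
      exact swap_apply_of_ne_of_ne hxa.symm hfxa.symm
  · rw [closure_le]
    intro t ht
    exact ht.2

theorem index_stabilizer_perm (a : Ω) : (stabilizer (Perm Ω) a).index = Fintype.card Ω := by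
  rw [index_stabilizer_of_transitive, Nat.card_eq_fintype_card]

theorem lt_choose_aux (n k : ℕ) (hk : 2 ≤ k) (hkn : k + 2 ≤ n) : n < n.choose k := by
  induction n generalizing k with
  | zero => omega
  | succ n ih =>
    obtain ⟨k, rfl⟩ : ∃ j, k = j + 1 := ⟨k - 1, by omega⟩
    rw [Nat.choose_succ_succ]
    by_cases h1 : k = 1
    · subst h1
      rw [Nat.choose_one_right]
      have : 2 ≤ n.choose 2 := by
        have := Nat.choose_le_choose 2 (show 3 ≤ n by omega)
        simp at this; omega
      simp only [Nat.succ_eq_add_one, Nat.reduceAdd]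
      omega
    · have h2 := ih k (by omega) (by omega)
      have h3 : 0 < n.choose (k + 1) := Nat.choose_pos (by omega)
      simp only [Nat.succ_eq_add_one]
      omega

theorem eq_stabilizer_of_intransitive (H : Subgroup (Perm Ω)) (hH : H.index = Fintype.card Ω)
    (ht : ¬ IsPretransitive H Ω) : ∃ x : Ω, H = stabilizer (Perm Ω) x := by
  classical
  suffices h : ∃ x : Ω, H ≤ stabilizer (Perm Ω) x by
    obtain ⟨x, hx⟩ := h
    refine ⟨x, ?_⟩
    have h1 := Subgroup.relIndex_mul_index hx
    rw [index_stabilizer_perm, hH] at h1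
    have h0 : 0 < Fintype.card Ω := Fintype.card_pos_iff.2 ⟨x⟩
    have h2 : H.relIndex (stabilizer (Perm Ω) x) = 1 :=
      Nat.eq_of_mul_eq_mul_right h0 (by rw [h1, one_mul])
    exact le_antisymm hx (Subgroup.relIndex_eq_one.1 h2)
  by_contra hne
  push Not at hne
  have hmove : ∀ x : Ω, ∃ g ∈ H, g x ≠ x := fun x => by
    by_contra h
    push Not at h
    exact hne x (fun g hg => h g hg)
  have : ∃ x y : Ω, y ∉ orbit H x := by
    by_contra h
    push Not at h
    exact ht ⟨fun x y => h x y⟩
  obtain ⟨x, y, hy⟩ := this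
  let s : Finset Ω := Finset.univ.filter (fun z => z ∈ orbit H x)
  have hs : ∀ z, z ∈ s ↔ z ∈ orbit H x := fun z => by simp [s]
  have hinv : ∀ g ∈ H, ∀ z, g z ∈ s ↔ z ∈ s := by
    intro g hg z
    rw [hs, hs]
    constructor
    · rintro ⟨h, hh⟩
      refine ⟨⟨g, hg⟩⁻¹ * h, ?_⟩
      simp only [mul_smul] at hh ⊢
      rw [hh]
      exact inv_smul_smul (⟨g, hg⟩ : H) z
    · rintro ⟨h, hh⟩
      refine ⟨⟨g, hg⟩ * h, ?_⟩
      simp only [mul_smul] at hh ⊢
      rw [hh]; rfl
  have h2 : 2 ≤ s.card := by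
    obtain ⟨g, hg, hgx⟩ := hmove x
    have hx : x ∈ s := (hs x).2 (mem_orbit_self x)
    exact Finset.one_lt_card.2 ⟨g x, (hinv g hg x).2 hx, x, hx, hgx⟩
  have h3 : 2 ≤ sᶜ.card := by
    obtain ⟨g, hg, hgx⟩ := hmove y
    have hx : y ∉ s := fun h => hy ((hs y).1 h)
    exact Finset.one_lt_card.2 ⟨g y, Finset.mem_compl.2 (fun h => hx ((hinv g hg y).1 h)), y,
      Finset.mem_compl.2 hx, hgx⟩
  rw [Finset.card_compl] at h3
  have hle := s.card_le_univ
  let S : Set.powersetCard Ω s.card := Set.powersetCard.ofCard rfl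
  have := Set.powersetCard.isPretransitive (α := Ω) (n := s.card)
  have hS : H ≤ stabilizer (Perm Ω) S := by
    intro g hg
    rw [mem_stabilizer_iff]
    apply Subtype.ext
    rw [Set.powersetCard.coe_smul]
    ext z
    rw [← Finset.inv_smul_mem_iff]
    exact hinv g⁻¹ (H.inv_mem hg) z
  have h4 := Nat.le_of_dvd (Nat.pos_of_ne_zero Subgroup.index_ne_zero_of_finite)
    (Subgroup.index_dvd_of_le hS)
  rw [index_stabilizer_of_transitive, Set.powersetCard.card, hH, Nat.card_eq_fintype_card] at h4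
  have := lt_choose_aux (Fintype.card Ω) s.card h2 (by omega)
  omega

theorem map_stabilizer_of_good (h2 : 2 ≤ Fintype.card Ω) (ψ : Perm Ω ≃* Perm Ω)
    (hψ : ∀ t : Perm Ω, t.IsSwap → (ψ t).IsSwap) (a : Ω) :
    ∃ x : Ω, (stabilizer (Perm Ω) a).map ψ.toMonoidHom = stabilizer (Perm Ω) x := by
  have hi : ((stabilizer (Perm Ω) a).map ψ.toMonoidHom).index = Fintype.card Ω := by
    rw [MulEquiv.toMonoidHom_eq_coe, Subgroup.index_map_equiv, index_stabilizer_perm]
  apply eq_stabilizer_of_intransitive _ hi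
  intro ht
  rw [stabilizer_eq_closure_swaps, MonoidHom.map_closure] at ht hi
  rw [closure_of_isSwap_of_isPretransitive, Subgroup.index_top] at hi
  · omega
  · rintro _ ⟨t, ht, rfl⟩
    exact hψ t ht.1

theorem eq_stabilizer_of_index (h6 : Fintype.card Ω ≠ 6) (H : Subgroup (Perm Ω))
    (hH : H.index = Fintype.card Ω) : ∃ x : Ω, H = stabilizer (Perm Ω) x := by
  have h0 : H.index ≠ 0 := Subgroup.index_ne_zero_of_finite
  obtain ⟨a⟩ : Nonempty Ω := Fintype.card_pos_iff.1 (by omega)
  by_cases h5 : 5 ≤ Fintype.card Ω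
  · obtain ⟨ψ, rfl⟩ := exists_aut_of_index h5 H hH a
    apply map_stabilizer_of_good (by omega)
    intro t ht
    exact (aut_swap h5 ψ t ht).resolve_right (fun h => h6 h.1)
  · by_cases h1 : Fintype.card Ω = 1
    · refine ⟨a, ?_⟩
      have : Subsingleton Ω := Fintype.card_le_one_iff_subsingleton.1 h1.le
      exact Subsingleton.elim _ _
    apply eq_stabilizer_of_intransitive H hH
    intro ht
    have hd : Fintype.card Ω ∣ Nat.card H := by
      have := index_stabilizer_of_transitive H a
      rw [Nat.card_eq_fintype_card] at this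
      rw [← this]
      exact Subgroup.index_dvd_card _
    have hm := H.card_mul_index
    rw [Nat.card_perm, hH, Nat.card_eq_fintype_card (α := Ω)] at hm
    obtain ⟨c, hc⟩ := hd
    rw [hc] at hm
    have : Fintype.card Ω = 2 ∨ Fintype.card Ω = 3 ∨ Fintype.card Ω = 4 := by omega
    rcases this with h | h | h <;> rw [h] at hm <;> simp [Nat.factorial] at hm <;> omega

end SymIndex

end Cfsg.Agent.H9
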