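import Cfsg.Agent.H9.SymIndex

set_option autoImplicit false
set_option linter.unusedSectionVars false

namespace Cfsg.Agent.H9

open Equiv Equiv.Perm MulAction Subgroup

theorem card_sylow_five_S5 : Nat.card (Sylow 5 (Perm (Fin 5))) = 6 := by
  have : Fact (Nat.Prime 5) := ⟨by norm_num⟩
  obtain ⟨P⟩ : Nonempty (Sylow 5 (Perm (Fin 5))) := inferInstance
  have hG : Nat.card (Perm (Fin 5)) = 120 := by
    rw [Nat.card_perm, Nat.card_eq_fintype_card, Fintype.card_fin]; rfl
  have hP : Nat.card P = 5 := by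
    rw [P.card_eq_multiplicity, hG]
    have : (Nat.factorization 120) 5 = 1 := by
      rw [show (120 : ℕ) = 5 ^ 1 * 24 from rfl, Nat.factorization_mul (by norm_num) (by norm_num)]
      simp [Nat.factorization_eq_zero_of_not_dvd, Nat.Prime.factorization_self this.out]
    rw [this]; rfl
  have hi : (P : Subgroup (Perm (Fin 5))).index = 24 := by
    have := (P : Subgroup (Perm (Fin 5))).card_mul_index
    rw [hP, hG] at this
    omega
  have h1 := P.card_dvd_index
  rw [hi] at h1
  have h2 := card_sylow_modEq_one 5 (Perm (Fin 5))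
  have h3 : Nat.card (Sylow 5 (Perm (Fin 5))) ≠ 1 := by
    intro h
    have : Subsingleton (Sylow 5 (Perm (Fin 5))) := (Nat.card_eq_one_iff_unique.1 h).1
    have hn : (P : Subgroup (Perm (Fin 5))).Normal := Sylow.normal_of_subsingleton P
    have hnt : Nontrivial (P : Subgroup (Perm (Fin 5))) := by
      rw [← Finite.one_lt_card_iff_nontrivial, hP]; norm_num
    have := Subgroup.index_dvd_of_le (alternatingGroup_le_of_normal (by simp) hnt)
    rw [hi, alternatingGroup.index_eq_two] at this
    norm_num at this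
  have h4 := Nat.le_of_dvd (by norm_num) h1
  generalize Nat.card (Sylow 5 (Perm (Fin 5))) = m at *
  unfold Nat.ModEq at h2
  interval_cases m <;> simp_all

variable {Ω : Type*} [Fintype Ω] [DecidableEq Ω]

theorem exists_index_six_no_fixed (h6 : Fintype.card Ω = 6) :
    ∃ H : Subgroup (Perm Ω), H.index = 6 ∧ ∀ a : Ω, H ≠ stabilizer (Perm Ω) a := by
  classical
  have : Fact (Nat.Prime 5) := ⟨by norm_num⟩
  have hc := card_sylow_five_S5
  obtain ⟨e⟩ : Nonempty (Sylow 5 (Perm (Fin 5)) ≃ Ω) :=
    Finite.card_eq.1 (by rw [hc, Nat.card_eq_fintype_card, h6])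
  let φ0 := MulAction.toPermHom (Perm (Fin 5)) (Sylow 5 (Perm (Fin 5)))
  obtain ⟨P⟩ : Nonempty (Sylow 5 (Perm (Fin 5))) := inferInstance
  have hinj : Function.Injective φ0 := by
    rw [← MonoidHom.ker_eq_bot_iff]
    by_contra hne
    have hnt : Nontrivial φ0.ker := (Subgroup.nontrivial_iff_ne_bot _).2 hne
    have h1 := alternatingGroup_le_of_normal (by simp) hnt
    have h2 : φ0.ker ≤ stabilizer (Perm (Fin 5)) P := by
      intro g hg
      rw [MonoidHom.mem_ker] at hg
      have := congrArg (fun σ : Perm _ => σ P) hg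
      simpa [φ0] using this
    have := Subgroup.index_dvd_of_le (h1.trans h2)
    rw [index_stabilizer_of_transitive, hc, alternatingGroup.index_eq_two] at this
    norm_num at this
  let φ : Perm (Fin 5) →* Perm Ω := (e.permCongrHom.toMonoidHom).comp φ0
  have hφ : Function.Injective φ := e.permCongrHom.injective.comp hinj
  refine ⟨φ.range, ?_, ?_⟩
  · have h1 := φ.range.card_mul_index
    rw [← Nat.card_congr (MonoidHom.ofInjective hφ).toEquiv, Nat.card_perm, Nat.card_perm,
      Nat.card_eq_fintype_card, Nat.card_eq_fintype_card, h6, Fintype.card_fin] at h1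
    simp [Nat.factorial] at h1
    omega
  · intro a ha
    have : Nontrivial Ω := Fintype.one_lt_card_iff_nontrivial.1 (by omega)
    obtain ⟨b, hb⟩ := exists_ne a
    obtain ⟨g, hg⟩ := MulAction.exists_smul_eq (Perm (Fin 5)) (e.symm a) (e.symm b)
    have h1 : φ g ∈ stabilizer (Perm Ω) a := ha ▸ ⟨g, rfl⟩
    rw [mem_stabilizer_iff, Perm.smul_def] at h1
    apply hb
    rw [← h1]
    simp [φ, φ0, hg]

theorem map_conj_stabilizer (g : Perm Ω) (a : Ω) :
    (stabilizer (Perm Ω) a).map (MulAut.conj g).toMonoidHom = stabilizer (Perm Ω) (g a) := by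
  rw [← Perm.smul_def, stabilizer_smul_eq_stabilizer_map_conj]

theorem map_map_conj {G : Type*} [Group G] (ψ : G ≃* G) (g : G) (H : Subgroup G) :
    (H.map (MulAut.conj g).toMonoidHom).map ψ.toMonoidHom =
      (H.map ψ.toMonoidHom).map (MulAut.conj (ψ g)).toMonoidHom := by
  rw [Subgroup.map_map, Subgroup.map_map]
  congr 1
  ext x
  simp

/-- the structure of index six subgroups of `S₆` -/
theorem exists_outer_six (h6 : Fintype.card Ω = 6) :
    ∃ ψ : Perm Ω ≃* Perm Ω,
      (∀ a b : Ω, (stabilizer (Perm Ω) a).map ψ.toMonoidHom ≠ stabilizer (Perm Ω) b) ∧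
      ∀ H : Subgroup (Perm Ω), H.index = 6 → ∃ b : Ω, H = stabilizer (Perm Ω) b ∨
        H = (stabilizer (Perm Ω) b).map ψ.toMonoidHom := by
  obtain ⟨H0, hH0, hH0'⟩ := exists_index_six_no_fixed h6
  obtain ⟨a⟩ : Nonempty Ω := Fintype.card_pos_iff.1 (by omega)
  obtain ⟨ψ, rfl⟩ := exists_aut_of_index (by omega) H0 (by omega) a
  have hbad : ∀ χ : Perm Ω ≃* Perm Ω, (¬ ∀ t : Perm Ω, t.IsSwap → (χ t).IsSwap) →
      ∀ t : Perm Ω, t.IsSwap → (χ t).cycleType = Multiset.replicate 3 2 := by
    intro χ hχ t ht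
    push Not at hχ
    obtain ⟨s, hs, hs'⟩ := hχ
    have h1 := ((aut_swap (by omega) χ s hs).resolve_left hs').2
    have h2 : IsConj s t := isConj_iff_cycleType_eq.2 (by
      rw [isSwap_iff_cycleType.1 hs, isSwap_iff_cycleType.1 ht])
    have h3 : IsConj (χ s) (χ t) := χ.toMonoidHom.map_isConj h2
    rw [← isConj_iff_cycleType_eq.1 h3, h1]
  have hψ : ¬ ∀ t : Perm Ω, t.IsSwap → (ψ t).IsSwap := fun h => by
    obtain ⟨x, hx⟩ := map_stabilizer_of_good (by omega) ψ h a
    exact hH0' x hx
  refine ⟨ψ, fun c b h => ?_, fun H hH => ?_⟩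
  · obtain ⟨g, hg⟩ := MulAction.exists_smul_eq (Perm Ω) c a
    rw [Perm.smul_def] at hg
    apply hH0' (ψ g b)
    rw [← hg, ← map_conj_stabilizer, map_map_conj, h, map_conj_stabilizer]
  · obtain ⟨χ, rfl⟩ := exists_aut_of_index (by omega) H (by omega) a
    by_cases hχ : ∀ t : Perm Ω, t.IsSwap → (χ t).IsSwap
    · obtain ⟨x, hx⟩ := map_stabilizer_of_good (by omega) χ hχ a
      exact ⟨x, Or.inl hx⟩
    · have hgood : ∀ t : Perm Ω, t.IsSwap → ((χ.trans ψ.symm) t).IsSwap := by
        intro t ht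
        have h1 : IsConj (χ t) (ψ t) := isConj_iff_cycleType_eq.2 (by
          rw [hbad χ hχ t ht, hbad ψ hψ t ht])
        have h2 : IsConj (ψ.symm (χ t)) (ψ.symm (ψ t)) := ψ.symm.toMonoidHom.map_isConj h1
        rw [ψ.symm_apply_apply] at h2
        rw [isSwap_iff_cycleType, MulEquiv.trans_apply, isConj_iff_cycleType_eq.1 h2,
          isSwap_iff_cycleType.1 ht]
      obtain ⟨x, hx⟩ := map_stabilizer_of_good (by omega) _ hgood a
      refine ⟨x, Or.inr ?_⟩
      rw [← hx, Subgroup.map_map]
      congr 1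
      ext g
      simp

theorem stabilizer_perm_injective (h3 : 3 ≤ Fintype.card Ω) :
    Function.Injective (fun a : Ω => stabilizer (Perm Ω) a) := by
  intro a b h
  by_contra hab
  obtain ⟨c, hca, hcb⟩ : ∃ c, c ≠ a ∧ c ≠ b := by
    by_contra hh
    push Not at hh
    have : (Finset.univ : Finset Ω) ⊆ {a, b} := fun c _ => by
      by_cases h : c = a
      · simp [h]
      · simp [hh c h]
    have h1 := Finset.card_le_card this
    have h2 := Finset.card_le_two (a := a) (b := b)
    rw [Finset.card_univ] at h1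
    omega
  have h1 : swap b c ∈ stabilizer (Perm Ω) a := by
    rw [mem_stabilizer_iff, Perm.smul_def]
    exact swap_apply_of_ne_of_ne hab hca.symm
  simp only at h
  rw [h, mem_stabilizer_iff, Perm.smul_def, swap_apply_left] at h1
  exact hcb h1

theorem stabilizer_perm_equiv (a : Ω) :
    Nonempty (stabilizer (Perm Ω) a ≃* Perm {x : Ω // x ≠ a}) := by
  have hinj : Function.Injective (Perm.ofSubtype : Perm {x : Ω // x ≠ a} →* Perm Ω) :=
    Perm.ofSubtype_injective
  have : (Perm.ofSubtype : Perm {x : Ω // x ≠ a} →* Perm Ω).range = stabilizer (Perm Ω) a := by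
    ext g
    rw [Perm.mem_range_ofSubtype_iff, mem_stabilizer_iff, Perm.smul_def]
    constructor
    · intro h
      by_contra hh
      exact h (show a ∈ ((g.support : Finset Ω) : Set Ω) by simpa using hh) rfl
    · intro h x hx hxa
      rw [hxa] at hx
      simp [h] at hx
  exact ⟨(MulEquiv.subgroupCongr this.symm).trans (MonoidHom.ofInjective hinj).symm⟩

end Cfsg.Agent.H9
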